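import Mathlib
import Groth.Prelude
import Groth.Agent.Lib.Helper8.Hzl.Noeth
import Groth.Agent.Lib.Helper8.Hzl.Noeth2
import Groth.Agent.Lib.Helper8.Hzl.Reduced
import Groth.Agent.S9237
import Groth.Agent.S9238
import Groth.Agent.Lib.Helper8.PInsepBranches

/-!
# Noetherian version of S16431 (excellence was only used for noetherianity)
-/

set_option autoImplicit false
universe u
open Groth.Agent.Lib.Helper8
open Hensel

namespace Groth.Agent.Lib.Helper8.FinInter

theorem pinsep_iff_extended
    (A Ah Ash : Type u) [CommRing A] [IsLocalRing A] [IsReduced A] [hnA0 : IsNoetherianRing A]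
    [CommRing Ah] [IsLocalRing Ah] [Algebra A Ah] [IsLocalHom (algebraMap A Ah)]
    [Hensel.IsHenselization A Ah]
    [CommRing Ash] [IsLocalRing Ash] [Algebra A Ash] [IsLocalHom (algebraMap A Ash)]
    [Hensel.IsStrictHenselization A Ash] [Algebra Ah Ash] [IsScalarTower A Ah Ash] :
    (∀ (M : Ideal (integralClosure A (FractionRing A))) [M.IsMaximal], ∀ x : (integralClosure A (FractionRing A)) ⧸ M, ∃ n : ℕ,
        x ^ (ringExpChar ((integralClosure A (FractionRing A)) ⧸ M)) ^ n ∈
          ((Ideal.Quotient.mk M).comp (algebraMap A (integralClosure A (FractionRing A)))).range) ↔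
      (∀ Q ∈ minimalPrimes Ash, Q = Ideal.map (algebraMap Ah Ash) (Q.comap (algebraMap Ah Ash))) := by
  classical
  haveI hnA : IsNoetherianRing A := hnA0
  haveI hnAh : IsNoetherianRing Ah := (Hzl.henselization_isNoetherianRing_iff A Ah).1 hnA
  haveI hnAsh : IsNoetherianRing Ash := (Hzl.strictHenselization_isNoetherianRing_iff A Ash).1 hnA
  haveI hloc : IsLocalHom (algebraMap Ah Ash) := PInsep.isLocalHom_hens_shens A Ah Ash
  haveI hsh : Hensel.IsStrictHenselization Ah Ash :=
    PInsep.isStrictHenselization_hens_shens A Ah Ash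
  haveI hflat : Module.Flat Ah Ash := Hzl.strictHenselization_flat Ah Ash
  haveI hff : Module.FaithfullyFlat Ah Ash := Hzl.strictHenselization_faithfullyFlat Ah Ash
  have hfinA : (minimalPrimes A).Finite := minimalPrimes.finite_of_isNoetherianRing A
  haveI hfinAh : Finite (minimalPrimes Ah) :=
    (minimalPrimes.finite_of_isNoetherianRing Ah).to_subtype
  haveI hfinAsh : Finite (minimalPrimes Ash) :=
    (minimalPrimes.finite_of_isNoetherianRing Ash).to_subtype
  let c : minimalPrimes Ash → minimalPrimes Ah := fun Q =>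
    ⟨Q.1.comap (algebraMap Ah Ash), BranchSum.comap_mem_minimalPrimes Ah Ash Q.2⟩
  have hcsurj : Function.Surjective c := by
    rintro ⟨P, hP⟩
    obtain ⟨Q, hQ, hQP⟩ := BranchCount.exists_minimalPrime_comap_eq Ah Ash P hP
    exact ⟨⟨Q, hQ⟩, Subtype.ext hQP⟩
  have hstep1 : (∀ Q ∈ minimalPrimes Ash,
      Q = Ideal.map (algebraMap Ah Ash) (Q.comap (algebraMap Ah Ash))) ↔ Function.Injective c := by
    constructor
    · intro h Q₁ Q₂ h12
      have h12' : Q₁.1.comap (algebraMap Ah Ash) = Q₂.1.comap (algebraMap Ah Ash) :=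
        congrArg Subtype.val h12
      apply Subtype.ext
      calc Q₁.1 = Ideal.map (algebraMap Ah Ash) (Q₁.1.comap (algebraMap Ah Ash)) := h _ Q₁.2
        _ = Ideal.map (algebraMap Ah Ash) (Q₂.1.comap (algebraMap Ah Ash)) := by rw [h12']
        _ = Q₂.1 := (h _ Q₂.2).symm
    · intro hinj Q hQ
      obtain ⟨P, hPdef⟩ : ∃ P, P = Q.comap (algebraMap Ah Ash) := ⟨_, rfl⟩
      have hP : P ∈ minimalPrimes Ah := by
        rw [hPdef]
        exact BranchSum.comap_mem_minimalPrimes Ah Ash hQ
      rw [← hPdef]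
      haveI : P.IsPrime := hP.1.1
      have hPne : P ≠ ⊤ := Ideal.IsPrime.ne_top inferInstance
      haveI : Nontrivial (Ah ⧸ P) := Ideal.Quotient.nontrivial_iff.mpr hPne
      haveI : Nontrivial (Ash ⧸ P.map (algebraMap Ah Ash)) :=
        Ideal.Quotient.nontrivial_iff.mpr (BranchSumGeom.map_ne_top Ah Ash P hPne)
      haveI := BranchSumGeom.isLocalHom_quotientMap Ah Ash P
      haveI := BranchSumGeom.isStrictHenselization_quotient Ah Ash P
      haveI : IsDomain (Ah ⧸ P) := Ideal.Quotient.isDomain P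
      have hred : IsReduced (Ash ⧸ P.map (algebraMap Ah Ash)) :=
        (Hzl.strictHenselization_isReduced_iff (Ah ⧸ P) (Ash ⧸ P.map (algebraMap Ah Ash))).1
          inferInstance
      have hrad : (P.map (algebraMap Ah Ash)).IsRadical :=
        (Ideal.isRadical_iff_quotient_reduced _).2 hred
      have hmin : (P.map (algebraMap Ah Ash)).minimalPrimes = {Q} := by
        rw [BranchSum.minimalPrimes_map_eq Ah Ash hP]
        ext Q'
        constructor
        · rintro ⟨hQ', hQ'P⟩
          have h0 : (⟨Q', hQ'⟩ : minimalPrimes Ash) = ⟨Q, hQ⟩ :=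
            hinj (Subtype.ext (hQ'P.trans hPdef))
          exact congrArg Subtype.val h0
        · intro h
          rw [Set.mem_singleton_iff] at h
          rw [h]
          exact ⟨hQ, hPdef.symm⟩
      have h1 := Ideal.sInf_minimalPrimes (I := P.map (algebraMap Ah Ash))
      rw [hmin, sInf_singleton, hrad.radical] at h1
      exact h1
  have hstep2 : Function.Injective c ↔
      ENat.card (minimalPrimes Ash) = ENat.card (minimalPrimes Ah) :=
    PInsep.injective_iff_card_eq c hcsurj
  have hG : Brnch.numGeomBranches A =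
      ENat.card (Σ m' : MaximalSpectrum (CAlg2.normRed A), Brnch.Emb A m') := by
    unfold Brnch.numGeomBranches
    rw [if_pos hfinA]
  have hB : Brnch.numBranches A = ENat.card (MaximalSpectrum (CAlg2.normRed A)) := by
    unfold Brnch.numBranches
    rw [if_pos hfinA]
  have h37 := Groth.Agent.S9237.result A Ah
  have h38 := Groth.Agent.S9238.result A Ash
  haveI : Finite (MaximalSpectrum (CAlg2.normRed A)) :=
    PInsep.finite_of_card_eq (β := minimalPrimes Ah) (by rw [← hB]; exact h37.symm)
  haveI : Finite (Σ m' : MaximalSpectrum (CAlg2.normRed A), Brnch.Emb A m') :=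
    PInsep.finite_of_card_eq (β := minimalPrimes Ash) (by rw [← hG]; exact h38.symm)
  have hfst_surj : Function.Surjective
      (Sigma.fst : (Σ m' : MaximalSpectrum (CAlg2.normRed A), Brnch.Emb A m') →
        MaximalSpectrum (CAlg2.normRed A)) := by
    intro m'
    obtain ⟨e⟩ := (PInsep.emb_core A m' _ rfl).1
    exact ⟨⟨m', e⟩, rfl⟩
  have hstep3 := PInsep.injective_iff_card_eq _ hfst_surj
  have hstep4 : Function.Injective
      (Sigma.fst : (Σ m' : MaximalSpectrum (CAlg2.normRed A), Brnch.Emb A m') →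
        MaximalSpectrum (CAlg2.normRed A)) ↔ ∀ m', Subsingleton (Brnch.Emb A m') := by
    constructor
    · intro hinj m'
      refine ⟨fun e₁ e₂ => ?_⟩
      have h12 : (⟨m', e₁⟩ : Σ m' : MaximalSpectrum (CAlg2.normRed A), Brnch.Emb A m') =
          ⟨m', e₂⟩ := hinj rfl
      exact sigma_mk_injective h12
    · rintro hsub ⟨m₁, e₁⟩ ⟨m₂, e₂⟩ (h : m₁ = m₂)
      subst h
      haveI := hsub m₁
      rw [Subsingleton.elim e₁ e₂]
  have hstep5 : (∀ m', Subsingleton (Brnch.Emb A m')) ↔
      (∀ m' : MaximalSpectrum (CAlg2.normRed A), ∀ x : CAlg2.normRed A ⧸ m'.asIdeal, ∃ n : ℕ,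
        x ^ (ringExpChar (CAlg2.normRed A ⧸ m'.asIdeal)) ^ n ∈ (Brnch.toResidue A m').range) :=
    forall_congr' fun m' => (PInsep.emb_core A m' _ rfl).2
  have hcard : (ENat.card (Σ m' : MaximalSpectrum (CAlg2.normRed A), Brnch.Emb A m') =
      ENat.card (MaximalSpectrum (CAlg2.normRed A))) ↔
      ENat.card (minimalPrimes Ash) = ENat.card (minimalPrimes Ah) := by
    rw [← hG, ← hB, h37, h38]
  exact (PInsep.pinsep_iff A).trans (hstep5.symm.trans (hstep4.symm.trans
    (hstep3.trans (hcard.trans (hstep2.symm.trans hstep1.symm)))))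


end Groth.Agent.Lib.Helper8.FinInter
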