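import Mathlib
import Groth.Prelude
import Groth.Agent.Lib.Helper8.Hzl.Main
import Groth.Agent.Lib.Helper8.Hzl.Transfer
import Groth.Agent.Lib.Helper8.Hzl.Dim
import Groth.Agent.Lib.Helper8.Hzl.Reduced
import Groth.Agent.Lib.Helper8.Hzl.IntegralHens
import Groth.Agent.Lib.Helper8.BranchSum
import Groth.Agent.Lib.Helper8.FinInter.PInsepGen

/-!
# A finite local subalgebra of the strict henselization with purely inseparable normalization
residue fields has the same strict henselization
-/

set_option autoImplicit false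
universe u
open Groth.Agent.Lib.Helper8
open IsLocalRing

namespace Groth.Agent.Lib.Helper8.FinInter

theorem isStrictHenselization_of_pinsep
    (A S D : Type u) [CommRing A] [HenselianLocalRing A] [IsNoetherianRing A]
    [CommRing S] [IsLocalRing S] [Algebra A S] [IsLocalHom (algebraMap A S)]
    [hS : Hensel.IsStrictHenselization A S]
    [CommRing D] [IsLocalRing D] [IsReduced D] [Algebra A D] [Module.Finite A D]
    [Algebra D S] [IsScalarTower A D S] [IsLocalHom (algebraMap D S)]
    (hinj : Function.Injective (algebraMap D S))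
    (PI : ∀ (M : Ideal (integralClosure D (FractionRing D))) [M.IsMaximal],
      ∀ x : (integralClosure D (FractionRing D)) ⧸ M, ∃ n : ℕ,
        x ^ (ringExpChar ((integralClosure D (FractionRing D)) ⧸ M)) ^ n ∈
          ((Ideal.Quotient.mk M).comp (algebraMap D (integralClosure D (FractionRing D)))).range) :
    Hensel.IsStrictHenselization D S := by
  classical
  haveI hlocAD : IsLocalHom (algebraMap A D) := ⟨fun a ha => by
    have h1 : IsUnit (algebraMap D S (algebraMap A D a)) := ha.map _
    rw [← IsScalarTower.algebraMap_apply A D S] at h1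
    exact isUnit_of_map_unit (algebraMap A S) a h1⟩
  haveI hnD : IsNoetherianRing D := IsNoetherianRing.of_finite A D
  haveI hintAD : Algebra.IsIntegral A D := Algebra.IsIntegral.of_finite A D
  haveI hhD : HenselianLocalRing D := Hzl.henselianLocalRing_of_isIntegral A D
  haveI hhS : HenselianLocalRing S := hS.henselian
  haveI : IsLocalHom (algebraMap D D) := ⟨fun a h => h⟩
  haveI hDD : Hensel.IsHenselization D D :=
    { henselian := hhD
      universal := fun T _ _ f hf => ⟨f, by rw [Algebra.algebraMap_self]; exact RingHom.comp_id f,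
        fun g hg => by rw [← hg, Algebra.algebraMap_self]; exact (RingHom.comp_id g).symm⟩ }
  haveI hDsh : Hensel.IsStrictHenselization D (Hzl.SHens D) := Hzl.isStrictHenselization D
  have hext := (pinsep_iff_extended D D (Hzl.SHens D)).mp PI
  -- residue fields
  haveI hsepcl : IsSepClosure (ResidueField D) (ResidueField (Hzl.SHens D)) := hDsh.isSepClosure
  have h1 := hS.isSepClosure
  haveI : IsSepClosed (ResidueField S) := h1.sep_closed
  haveI : Algebra.IsSeparable (ResidueField A) (ResidueField S) := h1.separable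
  haveI hsepcl' : IsSepClosure (ResidueField D) (ResidueField S) :=
    ⟨inferInstance, Algebra.isSeparable_tower_top_of_isSeparable (ResidueField A)
      (ResidueField D) (ResidueField S)⟩
  let σ : ResidueField (Hzl.SHens D) ≃ₐ[ResidueField D] ResidueField S :=
    IsSepClosure.equiv _ _ _
  have hσ : (σ : ResidueField (Hzl.SHens D) →+* ResidueField S).comp
      (ResidueField.map (algebraMap D (Hzl.SHens D))) = ResidueField.map (algebraMap D S) :=
    RingHom.ext fun x => σ.commutes x
  obtain ⟨μ, ⟨hμ1, hμ2⟩, -⟩ := hDsh.universal S (algebraMap D S) σ hσ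
  -- the inverse map
  let fA : A →+* Hzl.SHens D := (algebraMap D (Hzl.SHens D)).comp (algebraMap A D)
  haveI hfA : IsLocalHom fA := RingHom.isLocalHom_comp _ _
  have hσ' : (σ.symm : ResidueField S →+* ResidueField (Hzl.SHens D)).comp
      (ResidueField.map (algebraMap A S)) = ResidueField.map fA := by
    apply Ideal.Quotient.ringHom_ext
    ext a
    show σ.symm (residue S (algebraMap A S a)) = residue _ (fA a)
    rw [IsScalarTower.algebraMap_apply A D S]
    have h2 : residue S (algebraMap D S (algebraMap A D a)) =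
      algebraMap (ResidueField D) (ResidueField S) (residue D (algebraMap A D a)) := rfl
    rw [h2, σ.symm.commutes]
    rfl
  obtain ⟨ν, ⟨hν1, hν2⟩, -⟩ := hS.universal (Hzl.SHens D) fA σ.symm hσ'
  have hμν : μ.comp ν = RingHom.id S :=
    (hS.universal S (algebraMap A S) (RingHom.id _) (RingHom.id_comp _)).unique
      ⟨by
        rw [RingHom.comp_assoc, hν1]
        show μ.comp ((algebraMap D _).comp (algebraMap A D)) = _
        rw [← RingHom.comp_assoc, hμ1, ← IsScalarTower.algebraMap_eq], fun x => by
        rw [RingHom.comp_apply, hμ2, hν2]; simp⟩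
      ⟨RingHom.id_comp _, fun x => rfl⟩
  have hμsurj : Function.Surjective μ := fun s => ⟨ν s, DFunLike.congr_fun hμν s⟩
  haveI hredDsh : IsReduced (Hzl.SHens D) :=
    (Hzl.strictHenselization_isReduced_iff D (Hzl.SHens D)).mp inferInstance
  haveI hflat : Module.Flat D (Hzl.SHens D) := Hzl.strictHenselization_flat D (Hzl.SHens D)
  have hker : RingHom.ker μ ≤ ⊥ := by
    have hle : ∀ Q' ∈ minimalPrimes (Hzl.SHens D), RingHom.ker μ ≤ Q' := by
      intro Q' hQ'
      haveI hQ'p : Q'.IsPrime := hQ'.1.1
      have h𝔭 : Q'.comap (algebraMap D (Hzl.SHens D)) ∈ minimalPrimes D :=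
        BranchSum.comap_mem_minimalPrimes D (Hzl.SHens D) hQ'
      obtain ⟨Q, hQp, hQc⟩ :=
        Ideal.exists_comap_eq_of_mem_minimalPrimes_of_injective hinj _ h𝔭
      haveI := hQp
      haveI hPp : (Q.comap μ).IsPrime := Ideal.comap_isPrime _ _
      have hPc : (Q.comap μ).comap (algebraMap D (Hzl.SHens D)) =
          Q'.comap (algebraMap D (Hzl.SHens D)) := by
        rw [Ideal.comap_comap, hμ1, hQc]
      have hQ'P : Q' ≤ Q.comap μ :=
        calc Q' = Ideal.map (algebraMap D (Hzl.SHens D))
              (Q'.comap (algebraMap D (Hzl.SHens D))) := hext Q' hQ'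
          _ ≤ Q.comap μ := Ideal.map_le_iff_le_comap.mpr (le_of_eq hPc.symm)
      have hEq : Q' = Q.comap μ := Hzl.eq_of_le_of_under_eq Q' (Q.comap μ) hQ'P hPc.symm
      rw [hEq]
      intro x hx
      show μ x ∈ Q
      rw [RingHom.mem_ker.mp hx]; exact Q.zero_mem
    have h2 : RingHom.ker μ ≤ sInf (minimalPrimes (Hzl.SHens D)) := le_sInf hle
    have h3 : sInf (minimalPrimes (Hzl.SHens D)) = ⊥ := by
      unfold minimalPrimes
      rw [Ideal.sInf_minimalPrimes]
      exact nilradical_eq_zero _
    rw [h3] at h2; exact h2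
  have hμinj : Function.Injective μ :=
    (RingHom.injective_iff_ker_eq_bot μ).mpr (le_bot_iff.mp hker)
  let e : Hzl.SHens D ≃+* S := RingEquiv.ofBijective μ ⟨hμinj, hμsurj⟩
  have he : ∀ x, e x = μ x := fun x => rfl
  refine { henselian := hhS, isSepClosure := hsepcl', universal := ?_ }
  intro T _ _ f _ τ hτ
  have hτ' : (τ.comp (σ : ResidueField (Hzl.SHens D) →+* ResidueField S)).comp
      (ResidueField.map (algebraMap D (Hzl.SHens D))) = ResidueField.map f := by
    rw [RingHom.comp_assoc, hσ, hτ]
  obtain ⟨g', ⟨hg1, hg2⟩, hguniq⟩ := hDsh.universal T f _ hτ'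
  refine ⟨g'.comp (e.symm : S →+* Hzl.SHens D), ⟨?_, ?_⟩, ?_⟩
  · ext d
    show g' (e.symm (algebraMap D S d)) = f d
    have h4 : e.symm (algebraMap D S d) = algebraMap D (Hzl.SHens D) d := by
      rw [RingEquiv.symm_apply_eq, he]; exact (DFunLike.congr_fun hμ1 d).symm
    rw [h4]; exact DFunLike.congr_fun hg1 d
  · intro s
    show residue T (g' (e.symm s)) = τ (residue S s)
    rw [hg2]
    show τ (σ (residue _ (e.symm s))) = _
    have h5 : σ (residue _ (e.symm s)) = residue S (μ (e.symm s)) := (hμ2 _).symm
    rw [h5, ← he, e.apply_symm_apply]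
  · rintro g₂ ⟨hg₂1, hg₂2⟩
    have h := hguniq (g₂.comp μ) ⟨by rw [RingHom.comp_assoc, hμ1, hg₂1], fun x => by
      rw [RingHom.comp_apply, hg₂2, hμ2]; rfl⟩
    ext s
    show g₂ s = g' (e.symm s)
    rw [← h]
    show g₂ s = g₂ (μ (e.symm s))
    rw [← he, e.apply_symm_apply]

end Groth.Agent.Lib.Helper8.FinInter
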