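import Mathlib
import Groth.Prelude
import Groth.Agent.Lib.Helper8.Hzl.TensorSHens

/-!
# Rigidity of unramified algebras and strict henselizations over intermediate algebras
-/

set_option autoImplicit false
universe u
open Groth.Agent.Lib.Helper8
open IsLocalRing TensorProduct

namespace Groth.Agent.Lib.Helper8.FinInter

/-- Two algebra maps from an unramified algebra into a local ring which agree modulo the maximal
ideal are equal. -/
theorem algHom_ext_of_residue (A E T : Type u) [CommRing A] [CommRing E] [Algebra A E]
    [Algebra.FormallyUnramified A E] [Algebra.EssFiniteType A E]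
    [CommRing T] [IsLocalRing T] [Algebra A T]
    (h₁ h₂ : E →ₐ[A] T) (hres : ∀ e, h₁ e - h₂ e ∈ maximalIdeal T) : h₁ = h₂ := by
  obtain ⟨t, ht1, ht2⟩ :=
    (Algebra.FormallyUnramified.iff_exists_tensorProduct (R := A) (S := E)).mp inferInstance
  let Φ : E ⊗[A] E →ₐ[A] T := Algebra.TensorProduct.lift h₁ h₂ (fun _ _ => Commute.all _ _)
  let Ψ : E ⊗[A] E →ₐ[A] T := h₁.comp (Algebra.TensorProduct.lmul' A)
  have hΦ : ∀ a b, Φ (a ⊗ₜ[A] b) = h₁ a * h₂ b := fun a b => by
    simp [Φ]
  have hΨ : ∀ a b, Ψ (a ⊗ₜ[A] b) = h₁ a * h₁ b := fun a b => by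
    simp [Ψ]
  have hΦΨ : ∀ x, Φ x - Ψ x ∈ maximalIdeal T := by
    intro x
    induction x using TensorProduct.induction_on with
    | zero => simp
    | tmul a b =>
      have : Φ (a ⊗ₜ b) - Ψ (a ⊗ₜ b) = - (h₁ a * (h₁ b - h₂ b)) := by
        rw [hΦ, hΨ]; ring
      rw [this]
      exact neg_mem (Ideal.mul_mem_left _ _ (hres b))
    | add x y hx hy =>
      have : Φ (x + y) - Ψ (x + y) = (Φ x - Ψ x) + (Φ y - Ψ y) := by
        rw [map_add, map_add]; ring
      rw [this]; exact add_mem hx hy
  have hu : IsUnit (Φ t) := by
    have h1 : Ψ t = 1 := by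
      show h₁ (Algebra.TensorProduct.lmul' A t) = 1
      rw [ht2, map_one]
    have h2 := hΦΨ t
    rw [h1] at h2
    by_contra hnu
    have h3 : Φ t ∈ maximalIdeal T := (mem_maximalIdeal _).mpr hnu
    have h4 : (1 : T) ∈ maximalIdeal T := by
      have := sub_mem h3 h2
      simpa using this
    exact (maximalIdeal.isMaximal T).ne_top ((Ideal.eq_top_iff_one _).mpr h4)
  apply AlgHom.ext
  intro s
  have h1 := congrArg Φ (ht1 s)
  rw [map_mul, map_sub, map_zero, hΦ, hΦ, map_one, map_one, one_mul, mul_one] at h1
  have h4 := hu.mul_left_eq_zero.mp h1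
  exact (sub_eq_zero.mp h4).symm

/-- If `A → E → S` are local homomorphisms with `S` a strict henselization of `A` and `E`
unramified and essentially of finite type over `A`, then `S` is a strict henselization of `E`. -/
theorem isStrictHenselization_of_unramified (A S E : Type u) [CommRing A] [IsLocalRing A]
    [CommRing S] [IsLocalRing S] [Algebra A S] [IsLocalHom (algebraMap A S)]
    [Hensel.IsStrictHenselization A S]
    [CommRing E] [IsLocalRing E] [Algebra A E] [IsLocalHom (algebraMap A E)]
    [Algebra E S] [IsScalarTower A E S] [IsLocalHom (algebraMap E S)]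
    [Algebra.FormallyUnramified A E] [Algebra.EssFiniteType A E] :
    Hensel.IsStrictHenselization E S := by
  apply Hzl.isStrictHenselization_of_factor A S E
  intro T _ _ g _ τ hτ h hcomm hres
  letI : Algebra A T := (g.comp (algebraMap A E)).toAlgebra
  have hc : ∀ a : A, (h.comp (algebraMap E S)) (algebraMap A E a) = algebraMap A T a := by
    intro a
    change h (algebraMap E S (algebraMap A E a)) = g (algebraMap A E a)
    rw [← IsScalarTower.algebraMap_apply A E S]
    exact DFunLike.congr_fun hcomm a
  let h₁ : E →ₐ[A] T := { (h.comp (algebraMap E S)) with commutes' := hc }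
  let h₂ : E →ₐ[A] T := { g with commutes' := fun a => rfl }
  have key : h₁ = h₂ := by
    apply algHom_ext_of_residue A E T
    intro e
    have h1 : residue T (h (algebraMap E S e)) = residue T (g e) := by
      rw [hres]
      have := DFunLike.congr_fun hτ (residue E e)
      simp only [RingHom.comp_apply, ResidueField.map_residue] at this
      exact this
    exact Ideal.Quotient.eq.mp h1
  ext e
  exact DFunLike.congr_fun key e

/-- Translation between the power form of pure inseparability of the residue fields of an integral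
extension and the vanishing of the relative separable closure. -/
theorem pow_mem_iff_separableClosure_eq_bot (D D' : Type u) [CommRing D] [IsLocalRing D]
    [CommRing D'] [Algebra D D'] [Algebra.IsIntegral D D'] (M : Ideal D') [M.IsMaximal] :
    (∀ x : D' ⧸ M, ∃ n : ℕ, x ^ (ringExpChar (D' ⧸ M)) ^ n ∈
        ((Ideal.Quotient.mk M).comp (algebraMap D D')).range) ↔
      separableClosure (Subfield.closure (Set.range
        ((algebraMap D' M.ResidueField).comp (algebraMap D D')))) M.ResidueField = ⊥ := by
  classical
  let φ : D →+* M.ResidueField := (algebraMap D' M.ResidueField).comp (algebraMap D D')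
  let β : D' ⧸ M →+* M.ResidueField := algebraMap (D' ⧸ M) M.ResidueField
  have hβ : Function.Bijective β := Ideal.bijective_algebraMap_quotient_residueField M
  have hβφ : ∀ d, β (((Ideal.Quotient.mk M).comp (algebraMap D D')) d) = φ d := fun d => rfl
  haveI : ExpChar (D' ⧸ M) (ringExpChar (D' ⧸ M)) := ringExpChar.expChar _
  haveI hLq : ExpChar M.ResidueField (ringExpChar (D' ⧸ M)) :=
    expChar_of_injective_ringHom hβ.1 _
  haveI hKq : ExpChar (Subfield.closure (Set.range φ)) (ringExpChar (D' ⧸ M)) :=
    RingHom.expChar (algebraMap (Subfield.closure (Set.range φ)) M.ResidueField)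
      (algebraMap (Subfield.closure (Set.range φ)) M.ResidueField).injective _
  have hker : ∀ d : D, ¬ IsUnit d → φ d = 0 := by
    intro d hd
    have hmax : (M.comap (algebraMap D D')).IsMaximal :=
      Ideal.isMaximal_comap_of_isIntegral_of_isMaximal M
    have h1 : M.comap (algebraMap D D') = maximalIdeal D := IsLocalRing.eq_maximalIdeal hmax
    have h2 : d ∈ M.comap (algebraMap D D') := by
      rw [h1]; exact (mem_maximalIdeal d).mpr hd
    exact Ideal.algebraMap_residueField_eq_zero.mpr h2
  let K₁ : Subfield M.ResidueField :=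
    { φ.range with
      inv_mem' := by
        rintro _ ⟨d, rfl⟩
        by_cases hd : IsUnit d
        · obtain ⟨u, rfl⟩ := hd
          refine ⟨((u⁻¹ : Dˣ) : D), ?_⟩
          apply eq_inv_of_mul_eq_one_left
          rw [← map_mul, Units.inv_mul, map_one]
        · rw [hker d hd, inv_zero]; exact ⟨0, map_zero _⟩ }
  have hK : ∀ y : M.ResidueField, y ∈ Subfield.closure (Set.range φ) → ∃ d, φ d = y := by
    intro y hy
    have hle : Subfield.closure (Set.range φ) ≤ K₁ := Subfield.closure_le.mpr (fun z hz => hz)
    exact hle hy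
  haveI halg : Algebra.IsAlgebraic (Subfield.closure (Set.range φ)) M.ResidueField := by
    let φ₀ : D →+* Subfield.closure (Set.range φ) :=
      φ.codRestrict (Subfield.closure (Set.range φ)) (fun d => Subfield.subset_closure ⟨d, rfl⟩)
    refine ⟨fun y => ?_⟩
    obtain ⟨x, rfl⟩ := Ideal.algebraMap_residueField_surjective M y
    have hx : IsIntegral D x := Algebra.IsIntegral.isIntegral x
    have := IsIntegral.map_of_comp_eq (S := D') (U := M.ResidueField) φ₀
      (algebraMap D' M.ResidueField) (by ext d; rfl) hx
    exact this.isAlgebraic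
  constructor
  · intro PI
    show separableClosure (Subfield.closure (Set.range φ)) M.ResidueField = ⊥
    rw [separableClosure.eq_bot_iff,
      isPurelyInseparable_iff_pow_mem (Subfield.closure (Set.range φ)) (ringExpChar (D' ⧸ M))]
    intro y
    obtain ⟨x, rfl⟩ := hβ.2 y
    obtain ⟨n, d, hd⟩ := PI x
    refine ⟨n, ⟨⟨φ d, Subfield.subset_closure ⟨d, rfl⟩⟩, ?_⟩⟩
    rw [← map_pow, ← hd]; rfl
  · intro h x
    have hpi : IsPurelyInseparable (Subfield.closure (Set.range φ)) M.ResidueField :=
      separableClosure.eq_bot_iff.mp h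
    obtain ⟨n, k, hk⟩ := (isPurelyInseparable_iff_pow_mem (Subfield.closure (Set.range φ))
      (ringExpChar (D' ⧸ M))).mp hpi (β x)
    obtain ⟨d, hd⟩ := hK (k : M.ResidueField) k.2
    refine ⟨n, d, ?_⟩
    apply hβ.1
    rw [map_pow, hβφ, hd]; exact hk

end Groth.Agent.Lib.Helper8.FinInter
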