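import Mathlib
import Groth.Prelude
import Groth.Agent.Lib.Helper8.Hzl.Union
import Groth.Agent.Lib.Helper8.EssEtUtil
import Groth.Agent.Lib.Helper8.SubfieldInterA
import Groth.Agent.Lib.Helper8.FinInter.Rigid
import Groth.Agent.Lib.Helper8.FinInter.Core

/-!
# Finite intermediate algebras of a strict henselization: étale + extended minimal primes iff
residue fields of the normalization have trivial relative separable closure
-/

set_option autoImplicit false
universe u
open Groth.Agent.Lib.Helper8
open IsLocalRing

namespace Groth.Agent.Lib.Helper8.FinInter

theorem isHenselization_self (D : Type u) [CommRing D] [hhD : HenselianLocalRing D]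
    [IsLocalHom (algebraMap D D)] : Hensel.IsHenselization D D :=
  { henselian := hhD
    universal := fun T _ _ f hf => ⟨f, by rw [Algebra.algebraMap_self]; exact RingHom.comp_id f,
      fun g hg => by rw [← hg, Algebra.algebraMap_self]; exact (RingHom.comp_id g).symm⟩ }

theorem isIntegral_strictHenselization (A S : Type u) [CommRing A] [HenselianLocalRing A]
    [IsNoetherianRing A] [CommRing S] [IsLocalRing S] [Algebra A S] [IsLocalHom (algebraMap A S)]
    [Hensel.IsStrictHenselization A S] : Algebra.IsIntegral A S := ⟨fun s => by
  classical
  obtain ⟨E, hsE, hEloc, hEhom, hEet⟩ := Hzl.exists_essEtale_subalgebra A S {s}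
  have hs : s ∈ E := hsE (by simp)
  obtain ⟨hfin, -⟩ := SubfieldInter.finite_etale_of_essEtale A E hEet
  haveI := hfin
  have h1 : IsIntegral A (⟨s, hs⟩ : E) := Algebra.IsIntegral.isIntegral _
  exact h1.map E.val⟩

theorem main (A S : Type u) [CommRing A] [HenselianLocalRing A] [IsReduced A]
    [IsNoetherianRing A]
    [CommRing S] [IsLocalRing S] [Algebra A S] [IsLocalHom (algebraMap A S)]
    [hS : Hensel.IsStrictHenselization A S] (D : Subalgebra A S) [Module.Finite A D] :
    (Algebra.Etale A D ∧
        ∀ Q ∈ minimalPrimes S, Q = Ideal.map (algebraMap D S) (Q.comap (algebraMap D S))) ↔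
      ∀ (M : Ideal (integralClosure D (FractionRing D))) [M.IsMaximal],
        separableClosure (Subfield.closure (Set.range ((algebraMap (integralClosure D (FractionRing D)) M.ResidueField).comp (algebraMap D (integralClosure D (FractionRing D)))))) M.ResidueField = ⊥ := by
  classical
  haveI hhS : HenselianLocalRing S := hS.henselian
  haveI hintAS : Algebra.IsIntegral A S := isIntegral_strictHenselization A S
  haveI hintDS : Algebra.IsIntegral D S := Algebra.IsIntegral.tower_top (R := A)
  have hinj : Function.Injective (algebraMap D S) := Subtype.val_injective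
  haveI hlocDS : IsLocalHom (algebraMap D S) := inferInstance
  haveI hDloc : IsLocalRing D := (algebraMap D S).domain_isLocalRing
  haveI hSred : IsReduced S := (Hzl.strictHenselization_isReduced_iff A S).mp inferInstance
  haveI hDred : IsReduced D := isReduced_of_injective (algebraMap D S) hinj
  haveI hlocAD : IsLocalHom (algebraMap A D) := ⟨fun a ha => by
    have h1 : IsUnit (algebraMap D S (algebraMap A D a)) := ha.map _
    rw [← IsScalarTower.algebraMap_apply A D S] at h1
    exact isUnit_of_map_unit (algebraMap A S) a h1⟩
  haveI hnD : IsNoetherianRing D := IsNoetherianRing.of_finite A D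
  haveI hintAD : Algebra.IsIntegral A D := Algebra.IsIntegral.of_finite A D
  haveI hhD : HenselianLocalRing D := Hzl.henselianLocalRing_of_isIntegral A D
  haveI : IsLocalHom (algebraMap D D) := ⟨fun a h => h⟩
  haveI hDD : Hensel.IsHenselization D D := isHenselization_self D
  have htrans : (∀ (M : Ideal (integralClosure D (FractionRing D))) [M.IsMaximal],
        separableClosure (Subfield.closure (Set.range ((algebraMap (integralClosure D (FractionRing D)) M.ResidueField).comp (algebraMap D (integralClosure D (FractionRing D)))))) M.ResidueField = ⊥) ↔
      (∀ (M : Ideal (integralClosure D (FractionRing D))) [M.IsMaximal],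
        ∀ x : (integralClosure D (FractionRing D)) ⧸ M, ∃ n : ℕ,
        x ^ (ringExpChar ((integralClosure D (FractionRing D)) ⧸ M)) ^ n ∈
          ((Ideal.Quotient.mk M).comp (algebraMap D (integralClosure D (FractionRing D)))).range) := by
    constructor
    · intro h M hM x
      exact (pow_mem_iff_separableClosure_eq_bot D _ M).mpr (h M) x
    · intro h M hM
      exact (pow_mem_iff_separableClosure_eq_bot D _ M).mp (h M)
  rw [htrans]
  constructor
  · rintro ⟨hEt, hextS⟩
    haveI : Algebra.FormallyUnramified A D := inferInstance
    haveI : Algebra.EssFiniteType A D := inferInstance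
    haveI hDS : Hensel.IsStrictHenselization D S := isStrictHenselization_of_unramified A S D
    exact (pinsep_iff_extended D D S).mpr hextS
  · intro PI
    haveI hDS : Hensel.IsStrictHenselization D S :=
      isStrictHenselization_of_pinsep A S D hinj PI
    have hext := (pinsep_iff_extended D D S).mp PI
    have hmA : (maximalIdeal A).map (algebraMap A S) = maximalIdeal S :=
      Hzl.strictHenselization_map_maximalIdeal A S
    have hmD : (maximalIdeal D).map (algebraMap D S) = maximalIdeal S :=
      Hzl.strictHenselization_map_maximalIdeal D S
    haveI hffD : Module.FaithfullyFlat D S := Hzl.strictHenselization_faithfullyFlat D S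
    have hm : Ideal.map (algebraMap A D) (maximalIdeal A) = maximalIdeal D := by
      have h1 : ((maximalIdeal A).map (algebraMap A D)).map (algebraMap D S) =
          (maximalIdeal D).map (algebraMap D S) := by
        rw [Ideal.map_map, ← IsScalarTower.algebraMap_eq, hmA, hmD]
      have h2 := congrArg (Ideal.comap (algebraMap D S)) h1
      rwa [Ideal.comap_map_eq_self_of_faithfullyFlat,
        Ideal.comap_map_eq_self_of_faithfullyFlat] at h2
    haveI : Module.Flat A S := Hzl.strictHenselization_flat A S
    haveI : Algebra.IsSeparable (ResidueField A) (ResidueField S) := hS.isSepClosure.separable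
    have hE : EGA4loc.IsEssentiallyEtale A D := EssEtUtil.essEtale_of_map_maximalIdeal A S D hm
    exact ⟨(SubfieldInter.finite_etale_of_essEtale A D hE).2, hext⟩

end Groth.Agent.Lib.Helper8.FinInter
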